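import Groth.Agent.S1585
import Groth.Agent.VarietyLib.CurvePull
import Groth.Agent.CAlgH3.Serre
import Groth.Agent.CurvesLib24.Basic
import Groth.Agent.AlgSpLib.DimBasic
import Groth.Agent.VarietyLib.CurveDegree

/-!
# Regular curves over a one-dimensional subvariety
-/

set_option autoImplicit false
set_option linter.style.haveILetI false
set_option backward.isDefEq.respectTransparency false
set_option maxHeartbeats 400000

universe u

open CategoryTheory CategoryTheory.Limits AlgebraicGeometry Opposite TopologicalSpace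
open Groth.Agent.Coherent Groth.Agent.PicLib Groth.Agent.EulerLib Groth.Agent.AssSch12 Groth.Agent.DimLib
open Groth.Agent.VarietyLib

namespace Groth.Agent.CurveNef3

variable (k : Type u) [Field k]

theorem closure_genericPoint_dim {C : Scheme.{u}} [IsIntegral C] :
    topologicalKrullDim (closure ({genericPoint C} : Set C)) = topologicalKrullDim C := by
  rw [genericPoint_closure C]
  exact IsHomeomorph.topologicalKrullDim_eq _ (Homeomorph.Set.univ C).isHomeomorph

/-- A regular proper integral curve maps onto every one-dimensional subvariety. -/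
theorem exists_regular_curve (Y : Scheme.{u}) [Y.Over (Spec (CommRingCat.of k))]
    [IsProper (Y ↘ Spec (CommRingCat.of k))] (z : Y)
    (hz : topologicalKrullDim (closure ({z} : Set Y)) = ((1 : ℕ) : WithBot ℕ∞)) :
    ∃ (C : Scheme.{u}) (_ : C.Over (Spec (CommRingCat.of k))) (_ : IsProper (C ↘ Spec (CommRingCat.of k)))
      (_ : IsIntegral C) (ν : C ⟶ Y), topologicalKrullDim C = 1 ∧
      (∀ x : C, IsRegularLocalRing (C.presheaf.stalk x)) ∧
      ν ≫ (Y ↘ Spec (CommRingCat.of k)) = C ↘ Spec (CommRingCat.of k) ∧ ν (genericPoint C) = z := by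
  haveI := isNoetherian_of_proper (X := Y) k
  let Z := (clI z).subscheme
  let i := (clI z).subschemeι
  haveI : IsIntegral Z := isIntegral_clI z
  letI : Z.Over (Spec (CommRingCat.of k)) := ⟨i ≫ (Y ↘ Spec (CommRingCat.of k))⟩
  haveI : IsProper (Z ↘ Spec (CommRingCat.of k)) :=
    inferInstanceAs (IsProper (i ≫ (Y ↘ Spec (CommRingCat.of k))))
  haveI := isNoetherian_of_proper (X := Z) k
  obtain ⟨hfin, hdom, -, hint, hN⟩ := Groth.Agent.S1585.result k Z
  haveI := hfin
  haveI := hint
  haveI := hdom
  let ν₀ := Curv2.normalizationι Z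
  let N := Curv2.normalization Z
  letI : N.Over (Spec (CommRingCat.of k)) := ⟨ν₀ ≫ (Z ↘ Spec (CommRingCat.of k))⟩
  haveI : IsProper (N ↘ Spec (CommRingCat.of k)) :=
    inferInstanceAs (IsProper (ν₀ ≫ (Z ↘ Spec (CommRingCat.of k))))
  haveI := isNoetherian_of_proper (X := N) k
  have hgen : ν₀ (genericPoint N) = genericPoint Z := by
    have h := (genericPoint_spec N).image ν₀.continuous
    rw [Set.image_univ, ν₀.denseRange.closure_range] at h
    exact h.eq (genericPoint_spec Z)
  have hZ : topologicalKrullDim Z = ((1 : ℕ) : WithBot ℕ∞) := by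
    rw [← hz, ← range_clι z]
    exact IsHomeomorph.topologicalKrullDim_eq _ i.isClosedEmbedding.isEmbedding.toHomeomorph.isHomeomorph
  have hle : topologicalKrullDim N ≤ ((1 : ℕ) : WithBot ℕ∞) :=
    (AlgSpLib.topologicalKrullDim_le_of_isIntegralHom ν₀).trans hZ.le
  have hdim : topologicalKrullDim N = ((1 : ℕ) : WithBot ℕ∞) := by
    refine le_antisymm hle ?_
    have h1 := DimLib.ptDim_apply_le (Z ↘ Spec (CommRingCat.of k)) ν₀ (genericPoint N)
    rw [hgen] at h1
    rw [← closure_genericPoint_dim (C := N), dim_closure_eq_ptDim k, ← hZ,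
      ← closure_genericPoint_dim (C := Z), dim_closure_eq_ptDim k]
    exact_mod_cast h1
  refine ⟨N, inferInstance, inferInstance, inferInstance, ν₀ ≫ i, by exact_mod_cast hdim, fun x => ?_, ?_, ?_⟩
  · obtain ⟨hd, hic⟩ := hN x
    haveI := hd
    haveI := hic
    exact CAlgH3.isRegularLocalRing_of_normal_dim_le_one
      ((CurvesLib24.stalk_dim_le_topologicalKrullDim x).trans (by exact_mod_cast hle))
  · exact (Category.assoc _ _ _).trans rfl
  · show i (ν₀ (genericPoint N)) = z
    rw [hgen]
    exact clI_genericPoint z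

/-- The degree of the pullback to a curve is a positive multiple of the degree on the image. -/
theorem deg_pullback {C Y : Scheme.{u}} [C.Over (Spec (CommRingCat.of k))] [Y.Over (Spec (CommRingCat.of k))]
    [IsProper (C ↘ Spec (CommRingCat.of k))] [IsProper (Y ↘ Spec (CommRingCat.of k))] [IsIntegral C]
    (hdim : topologicalKrullDim C = 1) (ν : C ⟶ Y)
    (hν : ν ≫ (Y ↘ Spec (CommRingCat.of k)) = C ↘ Spec (CommRingCat.of k))
    (hz : topologicalKrullDim (closure ({ν (genericPoint C)} : Set Y)) = ((1 : ℕ) : WithBot ℕ∞))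
    {M : Y.Modules} (hM : PicF.IsInvertible M) :
    ∃ r : ℤ, 0 < r ∧ Curv2.deg k C ((Scheme.Modules.pullback ν).obj M) 1 =
      r * (Curv2.euler k Y (CohB1.tensorMod (clM (ν (genericPoint C))) M) -
        Curv2.euler k Y (clM (ν (genericPoint C)))) := by
  refine ⟨ν.residueDegree (genericPoint C), Int.natCast_pos.2 (Nat.pos_of_ne_zero ?_), ?_⟩
  · refine residueDegree_ne_zero k ν hν ?_
    rw [dim_closure_eq_ptDim k] at hz
    have h1 := closure_genericPoint_dim (C := C)
    rw [dim_closure_eq_ptDim k, hdim, ← Nat.cast_one (R := WithBot ℕ∞)] at h1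
    have e1 : (ptDim (C ↘ Spec (CommRingCat.of k)) (genericPoint C)) = 1 := by exact_mod_cast h1
    have e2 : (ptDim (Y ↘ Spec (CommRingCat.of k)) (ν (genericPoint C))) = 1 := by exact_mod_cast hz
    rw [e1, e2]
  · have h := interDeg_pull k ν hν (d := 1) (by rw [hdim, Nat.cast_one]) (fun _ => InvCl.mk M hM)
    rw [interDeg_one_eq k hM] at h
    rw [← h]
    refine Eq.trans ?_ (interDeg_one_eq k (PicLoc.isInvertible_pullback ν hM) (Coh.structureModule C)).symm
    rw [← degFun_structure k ((Scheme.Modules.pullback ν).obj M), degFun, Nat.cast_one, one_mul]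

/-- Quotients pull back along a composite. -/
theorem exists_epi_comp {A B X : Scheme.{u}} (ν : A ⟶ B) (g : B ⟶ X) (E : X.Modules) {M : B.Modules}
    (q : (Scheme.Modules.pullback g).obj E ⟶ M) [Epi q] :
    ∃ q' : (Scheme.Modules.pullback (ν ≫ g)).obj E ⟶ (Scheme.Modules.pullback ν).obj M, Epi q' := by
  haveI : (Scheme.Modules.pullback ν).PreservesEpimorphisms :=
    Functor.preservesEpimorphisms_of_adjunction (Scheme.Modules.pullbackPushforwardAdjunction ν)
  haveI : Epi ((Scheme.Modules.pullback ν).map q) := Functor.map_epi _ q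
  exact ⟨((Scheme.Modules.pullbackComp ν g).app E).inv ≫ (Scheme.Modules.pullback ν).map q, epi_comp _ _⟩

end Groth.Agent.CurveNef3
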